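import Cfsg.Agent.H794.EM.Deg
import Cfsg.Agent.H615.GU.Grp

/-!
# S4933: the type of the identity

* `mcol_one`, `mcol_one_ne` : the columns of the identity matrix;
* `typ_one_of` : a type function given by `mcol` has the value `tyOne Q n` at `1`;
* `typ_one_G`, `typ_one_U` : for `GL (Fin n) F` and `GU n F q`.
-/

set_option autoImplicit false

open Module

namespace Cfsg.Agent.H577.HT

open Cfsg Cfsg.Agent.H615.GU Cfsg.Agent.H794.EM

section cols

variable {F V : Type*} [Field F] [AddCommGroup V] [Module F V] [Module.Finite F V]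

/-- the columns of the zero map -/
theorem colOf_zero : colOf (0 : V →ₗ[F] V) = cn (finrank F V) := by
  ext i
  by_cases hi : i = 0
  · subst hi
    rw [cn_zero_apply, colOf_apply, pow_zero, LinearMap.ker_zero, top_inf_eq]
    have h : LinearMap.range (1 : V →ₗ[F] V) = ⊤ := LinearMap.range_id
    rw [h, finrank_top]
  · rw [cn_apply hi, colOf_apply, zero_pow hi, LinearMap.range_zero, inf_bot_eq, finrank_bot]

/-- the columns of an injective map -/
theorem colOf_of_ker {T : V →ₗ[F] V} (h : LinearMap.ker T = ⊥) : colOf T = 0 := by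
  ext i
  rw [colOf_apply, h, bot_inf_eq, finrank_bot]
  rfl

end cols

section mats

variable {F K : Type*} [Field F] [Field K] [Algebra F K] {n : ℕ}

theorem mcol_one : mcol (1 : Matrix (Fin n) (Fin n) F) (1 : K) = cn n := by
  rw [mcol, Matrix.map_one _ (map_zero _) (map_one _), map_one, sub_self, map_zero, colOf_zero]
  rw [finrank_fin_fun]

theorem mcol_one_ne {x : K} (hx : x ≠ 1) : mcol (1 : Matrix (Fin n) (Fin n) F) x = 0 := by
  refine colOf_of_ker ?_
  rw [Matrix.map_one _ (map_zero _) (map_one _), LinearMap.ker_eq_bot']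
  intro v hv
  have h1 : (1 - x) • v = 0 := by
    rw [← hv, map_sub, LinearMap.sub_apply, Matrix.toLin'_one, LinearMap.id_apply, sub_smul, one_smul,
      Matrix.toLin'_apply, Matrix.scalar_apply, ← Matrix.smul_one_eq_diagonal, Matrix.smul_mulVec, Matrix.one_mulVec]
  exact (smul_eq_zero.1 h1).resolve_left (sub_ne_zero.2 hx.symm)

/-- **the type of the identity** -/
theorem typ_one_of [Finite K] {Q : ℤ} (hQ : IsCoprime Q (Nat.card Kˣ : ℤ)) {X : Type*} [Group X]
    (T : TypeData (dOrb K Q) Q X n) {A : X → Matrix (Fin n) (Fin n) F} (hA : A 1 = 1)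
    (hT : ∀ (g : X) (x : Kˣ), T.typ g (Quotient.mk (orbSetoid K Q) x) = mcol (A g) (x : K)) :
    T.typ 1 = tyOne Q n := by
  classical
  ext1 o
  induction o using Quotient.inductionOn with
  | h x =>
    rw [hT, hA, tyOne, Finsupp.single_apply]
    by_cases hx : x = 1
    · subst hx
      have h0 : o1 K Q = Quotient.mk (orbSetoid K Q) 1 := rfl
      rw [if_pos h0, Units.val_one, mcol_one]
    · have h0 : o1 K Q ≠ Quotient.mk (orbSetoid K Q) x := fun h => hx (mk_eq_o1 Q hQ h.symm)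
      rw [if_neg h0, mcol_one_ne fun h => hx (Units.ext h)]

theorem coprime_unit {Q : ℤ} {M : ℕ} (hc : Nat.card Kˣ = M) (h : IsUnit (Q : ZMod M)) :
    IsCoprime Q (Nat.card Kˣ : ℤ) := by
  rw [hc]
  obtain ⟨b, hb⟩ := h.exists_right_inv
  obtain ⟨z, rfl⟩ := ZMod.intCast_surjective b
  have h1 : ((Q * z - 1 : ℤ) : ZMod M) = 0 := by
    push_cast
    rw [hb, sub_self]
  rw [ZMod.intCast_zmod_eq_zero_iff_dvd] at h1
  obtain ⟨r, hr⟩ := h1
  exact ⟨z, -r, by linarith [mul_comm Q z, mul_comm (M : ℤ) r]⟩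

/-- **the type of the identity of `GL (Fin n) F`** -/
theorem typ_one_G {Q : ℤ} {M : ℕ} {θ : K →*₀ ℂ} {N : ℕ} (ctx : CtxQ θ Q M N)
    (T : TypeData (dOrb K Q) Q (GL (Fin n) F) n)
    (hT : ∀ (A : GL (Fin n) F) (x : Kˣ), T.typ A (Quotient.mk (orbSetoid K Q) x) = mcol A.1 (x : K)) :
    T.typ 1 = tyOne Q n :=
  have := ctx.finK
  typ_one_of (coprime_unit ctx.card ctx.unit) T (A := fun A : GL (Fin n) F => A.1) rfl hT

/-- **the type of the identity of `GU n F q`** -/
theorem typ_one_U {q : ℕ} {M : ℕ} {θ : K →*₀ ℂ} {N : ℕ} (ctx : CtxQ θ (-(q : ℤ)) M N)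
    (T : TypeData (dOrb K (-(q : ℤ))) (-(q : ℤ)) (Cfsg.GU n F q) n) (hT : IsTypU q n T) :
    T.typ 1 = tyOne (-(q : ℤ)) n :=
  have := ctx.finK
  typ_one_of (coprime_unit ctx.card ctx.unit) T
    (A := fun A : Cfsg.GU n F q => ((A : GL (Fin n) F) : Matrix (Fin n) (Fin n) F)) rfl hT

end mats

end Cfsg.Agent.H577.HT
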