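import Cfsg.Agent.H421.HT.Num
import Mathlib.Data.Nat.Prime.Factorial

/-!
# S4933, PSU_n(q), `p ∣ q + 1`: multiplicities of the labels

* `exists_triple` : `p ≤ n`, not `n = p = 3`: three distinct labels in `ZMod p` with multiplicities `a + b + c = n`, sum zero,
  and multinomial coefficient of valuation one;
* `exists_mult` : the same as a function `ZMod p → ℕ`, not invariant under any shift.
-/

set_option autoImplicit false
set_option linter.unusedSectionVars false

open Finset

namespace Cfsg.Agent.H577.HT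

open Cfsg.Agent.H421.HT

/-- valuation of the factorial -/
noncomputable def vf (p n : ℕ) : ℕ := (n.factorial).factorization p

theorem vf_eq (p n : ℕ) : vf p n = (n.factorial).factorization p := rfl

theorem vf_zero (p : ℕ) : vf p 0 = 0 := by
  rw [vf, Nat.factorial_zero, Nat.factorization_one]
  rfl

theorem vf_lt {p n : ℕ} (hp : p.Prime) (h : n < p) : vf p n = 0 :=
  Nat.factorization_eq_zero_of_not_dvd fun hd => absurd ((Nat.Prime.dvd_factorial hp).1 hd) (by omega)

theorem vf_choose (p a k : ℕ) : vf p (a + k) = vf p a + vf p k + ((a + k).choose k).factorization p := by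
  have h2 := Nat.choose_mul_factorial_mul_factorial (n := a + k) (k := k) (Nat.le_add_left _ _)
  have hc0 : (a + k).choose k ≠ 0 := (Nat.choose_pos (Nat.le_add_left _ _)).ne'
  rw [Nat.add_sub_cancel] at h2
  rw [vf, ← h2, Nat.factorization_mul (mul_ne_zero hc0 (Nat.factorial_ne_zero _)) (Nat.factorial_ne_zero _),
    Nat.factorization_mul hc0 (Nat.factorial_ne_zero _), Finsupp.add_apply, Finsupp.add_apply, vf, vf]
  omega

theorem vf_succ (p n : ℕ) : vf p (n + 1) = vf p n + (n + 1).factorization p := by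
  rw [vf, Nat.factorial_succ, Nat.factorization_mul (Nat.succ_ne_zero n) (Nat.factorial_ne_zero n), Finsupp.add_apply,
    vf, add_comm]

/-- **three labels** -/
theorem exists_triple {p n : ℕ} [Fact p.Prime] (ho : Odd p) (hpn : p ≤ n) (h33 : ¬ (n = 3 ∧ p = 3)) :
    ∃ (a b c : ℕ) (x y z : ZMod p), x ≠ y ∧ x ≠ z ∧ y ≠ z ∧ a + b + c = n ∧
      (a : ZMod p) * x + (b : ZMod p) * y + (c : ZMod p) * z = 0 ∧
      vf p n = vf p a + vf p b + vf p c + 1 ∧ ¬ (a = b ∧ b = c ∧ p = 3) := by
  have hp : p.Prime := Fact.out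
  have h2 := hp.two_le
  have h3 : 3 ≤ p := by
    rcases ho with ⟨m, hm⟩
    omega
  have h1n : (1 : ZMod p) ≠ 0 := one_ne_zero
  have h2n : (2 : ZMod p) ≠ 0 := by
    have : ((2 : ℕ) : ZMod p) ≠ 0 := by
      rw [Ne, ZMod.natCast_eq_zero_iff]
      intro h
      have := Nat.le_of_dvd two_pos h
      omega
    exact_mod_cast this
  have hd : ∀ t : ZMod p, t ≠ t + 1 ∧ t ≠ t + 2 ∧ t + 1 ≠ t + 2 := by
    intro t
    refine ⟨fun h => h1n ?_, fun h => h2n ?_, fun h => h1n ?_⟩
    · have := sub_eq_zero.2 h.symm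
      rwa [add_sub_cancel_left] at this
    · have := sub_eq_zero.2 h.symm
      rwa [add_sub_cancel_left] at this
    · have := sub_eq_zero.2 h.symm
      have e : t + 2 - (t + 1) = (1 : ZMod p) := by ring
      rwa [e] at this
  by_cases hn : p ∣ n
  · by_cases hn2 : p ∣ n / p
    · -- `p ^ 2 ∣ n`
      have hq : n / p ≠ 0 := (Nat.div_pos hpn hp.pos).ne'
      obtain ⟨j, u, hu, hju⟩ := Nat.exists_eq_pow_mul_and_not_dvd hq p hp.one_lt.ne'
      obtain ⟨u, rfl⟩ : ∃ v, u = v + 1 := ⟨u - 1, by
        have : u ≠ 0 := by rintro rfl; exact hu (dvd_zero p)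
        omega⟩
      have hj : 0 < j := by
        rcases Nat.eq_zero_or_pos j with rfl | hj
        · rw [pow_zero, one_mul] at hju
          rw [hju] at hn2
          exact absurd hn2 hu
        · exact hj
      have h4 := choose_one hp (j := j) (r := 0) (d := 0) (u := u) (pow_pos hp.pos j) (by omega) hu
      have h5 : 0 + p ^ j * 0 + p ^ (j + 1) * (u + 1) = n := by
        rw [mul_zero, zero_add, zero_add, pow_succ, mul_right_comm, ← hju]
        exact Nat.div_mul_cancel hn
      rw [h5, zero_add, one_mul] at h4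
      have h6 : p ^ j ≤ n := by
        calc p ^ j ≤ p ^ j * (u + 1) := Nat.le_mul_of_pos_right _ (Nat.succ_pos u)
          _ = n / p := hju.symm
          _ ≤ n := Nat.div_le_self n p
      have h7 : p ^ j < n := by
        refine lt_of_le_of_ne h6 fun h => ?_
        rw [← h, Nat.choose_self, Nat.factorization_one] at h4
        exact zero_ne_one h4
      refine ⟨n - p ^ j, p ^ j, 0, 0, 0 + 1, 0 + 2, (hd 0).1, (hd 0).2.1, (hd 0).2.2, by omega, ?_, ?_, ?_⟩
      · have : ((p ^ j : ℕ) : ZMod p) = 0 := by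
          rw [ZMod.natCast_eq_zero_iff]
          exact dvd_pow_self p hj.ne'
        rw [this, mul_zero, zero_mul, Nat.cast_zero, zero_mul, add_zero, add_zero]
      · have h8 := vf_choose p (n - p ^ j) (p ^ j)
        rw [Nat.sub_add_cancel h6, h4] at h8
        rw [h8, vf_zero, add_zero]
      · rintro ⟨-, h, -⟩
        exact (pow_pos hp.pos j).ne' h
    · -- `p ∣ n`, not `p ^ 2`
      have h4 : n.factorization p = 1 := by
        obtain ⟨m, rfl⟩ := hn
        rw [Nat.mul_div_cancel_left _ hp.pos] at hn2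
        have hm : m ≠ 0 := by rintro rfl; exact hn2 (dvd_zero p)
        rw [Nat.factorization_mul hp.ne_zero hm, Finsupp.add_apply, hp.factorization_self,
          Nat.factorization_eq_zero_of_not_dvd hn2]
      obtain ⟨m, rfl⟩ : ∃ m, n = m + 1 + 1 := ⟨n - 2, by omega⟩
      have h5 : (m + 1).factorization p = 0 := by
        refine Nat.factorization_eq_zero_of_not_dvd fun h => ?_
        have := (Nat.dvd_add_right h).1 hn
        exact hp.one_lt.ne' (Nat.dvd_one.1 this)
      have h6 : (0 : ZMod p) ≠ -1 := fun h => h1n (neg_eq_zero.1 h.symm)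
      have h7 : (1 : ZMod p) ≠ -1 := fun h => h2n (by
        have := sub_eq_zero.2 h
        have e : (1 : ZMod p) - -1 = 2 := by ring
        rwa [e] at this)
      refine ⟨m, 1, 1, 0, 1, -1, h1n.symm, h6, h7, rfl, ?_, ?_, ?_⟩
      · rw [mul_zero, Nat.cast_one, one_mul, one_mul, zero_add, add_neg_cancel]
      · rw [vf_succ, vf_succ, h4, h5, vf_lt hp (n := 1) (by omega)]
      · rintro ⟨h, -, h'⟩
        exact h33 ⟨by omega, h'⟩
  · -- `p ∤ n`
    have hn0 : (n : ZMod p) ≠ 0 := by rwa [Ne, ZMod.natCast_eq_zero_iff]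
    rcases exists_choose hp hpn with ⟨k, hk1, hk2, hk3⟩ | ⟨h5, h6⟩
    · have h7 : k < n := by
        refine lt_of_le_of_ne hk2 fun h => ?_
        rw [h, Nat.choose_self, Nat.factorization_one] at hk3
        exact zero_ne_one hk3
      obtain ⟨t, ht⟩ : ∃ t : ZMod p, (n : ZMod p) * t = -k := ⟨(n : ZMod p)⁻¹ * (-k), mul_inv_cancel_left₀ hn0 _⟩
      refine ⟨n - k, k, 0, t, t + 1, t + 2, (hd t).1, (hd t).2.1, (hd t).2.2, by omega, ?_, ?_, ?_⟩
      · rw [Nat.cast_sub hk2, Nat.cast_zero, zero_mul, add_zero]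
        linear_combination ht
      · have h8 := vf_choose p (n - k) k
        rw [Nat.sub_add_cancel hk2, hk3] at h8
        rw [h8, vf_zero, add_zero]
      · rintro ⟨-, h, -⟩
        omega
    · obtain ⟨t, ht⟩ : ∃ t : ZMod p, (n : ZMod p) * t = -1 := ⟨(n : ZMod p)⁻¹ * (-1), mul_inv_cancel_left₀ hn0 _⟩
      have h7 : (n.choose p).factorization p = 0 := by
        refine Nat.factorization_eq_zero_of_not_dvd fun h => h6 ?_
        have h8 := Nat.choose_succ_right_eq n p
        have h9 : p ∣ n.choose (p + 1) * (p + 1) := by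
          rw [h8]
          exact Dvd.dvd.mul_right h _
        exact ((Nat.coprime_self_add_right (m := p) (n := 1)).2 (Nat.coprime_one_right p)).dvd_of_dvd_mul_right h9
      refine ⟨n - p, p - 1, 1, t, t + 1, t + 2, (hd t).1, (hd t).2.1, (hd t).2.2, by omega, ?_, ?_, ?_⟩
      · rw [Nat.cast_sub hpn, Nat.cast_sub hp.one_lt.le, CharP.cast_eq_zero (ZMod p) p, Nat.cast_one]
        linear_combination ht
      · have h8 := vf_choose p (n - p) p
        rw [Nat.sub_add_cancel hpn, h7] at h8
        have h9 := vf_succ p (p - 1)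
        rw [Nat.sub_add_cancel hp.one_lt.le, hp.factorization_self] at h9
        rw [h8, h9, vf_lt hp (n := 1) (by omega)]
        omega
      · rintro ⟨-, h, h'⟩
        omega

section fn

variable {p : ℕ} [Fact p.Prime]

/-- the function with three values -/
def tri (a b c : ℕ) (x y z : ZMod p) : ZMod p → ℕ := fun t => if t = x then a else if t = y then b else if t = z then c else 0

theorem tri_x (a b c : ℕ) (x y z : ZMod p) : tri a b c x y z x = a := if_pos rfl

theorem tri_y {a b c : ℕ} {x y z : ZMod p} (h : x ≠ y) : tri a b c x y z y = b := by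
  rw [tri, if_neg h.symm, if_pos rfl]

theorem tri_z {a b c : ℕ} {x y z : ZMod p} (h : x ≠ z) (h' : y ≠ z) : tri a b c x y z z = c := by
  rw [tri, if_neg h.symm, if_neg h'.symm, if_pos rfl]

theorem tri_else {a b c : ℕ} {x y z t : ZMod p} (h : t ≠ x) (h' : t ≠ y) (h'' : t ≠ z) : tri a b c x y z t = 0 := by
  rw [tri, if_neg h, if_neg h', if_neg h'']

theorem sum_tri {A : Type*} [AddCommMonoid A] (g : ℕ → ZMod p → A) (hg : ∀ x, g 0 x = 0) {a b c : ℕ} {x y z : ZMod p}
    (h1 : x ≠ y) (h2 : x ≠ z) (h3 : y ≠ z) : ∑ t, g (tri a b c x y z t) t = g a x + g b y + g c z := by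
  classical
  rw [← Finset.sum_subset (Finset.subset_univ {x, y, z}), Finset.sum_insert, Finset.sum_insert, Finset.sum_singleton,
    tri_x, tri_y h1, tri_z h2 h3, add_assoc]
  · rwa [Finset.mem_singleton]
  · rw [Finset.mem_insert, Finset.mem_singleton]
    rintro (h | h)
    · exact h1 h
    · exact h2 h
  · intro t _ ht
    rw [Finset.mem_insert, Finset.mem_insert, Finset.mem_singleton, not_or, not_or] at ht
    rw [tri_else ht.1 ht.2.1 ht.2.2, hg]

/-- shift-invariant functions are constant -/
theorem const_of_shift {k : ZMod p → ℕ} {d : ZMod p} (hd : d ≠ 0) (h : ∀ x, k (x + d) = k x) (x : ZMod p) :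
    k x = k 0 := by
  have h1 : ∀ i : ℕ, k ((i : ZMod p) * d) = k 0 := by
    intro i
    induction i with
    | zero => rw [Nat.cast_zero, zero_mul]
    | succ i ih => rw [Nat.cast_succ, add_mul, one_mul, h, ih]
  have h2 := h1 (x * d⁻¹).val
  rwa [ZMod.natCast_zmod_val, mul_assoc, inv_mul_cancel₀ hd, mul_one] at h2

/-- **the multiplicities of the labels** -/
theorem exists_mult {n : ℕ} (ho : Odd p) (hpn : p ≤ n) (h33 : ¬ (n = 3 ∧ p = 3)) :
    ∃ k : ZMod p → ℕ, ∑ x, k x = n ∧ ∑ x, (k x : ZMod p) * x = 0 ∧ (∀ d : ZMod p, d ≠ 0 → ∃ x, k (x + d) ≠ k x) ∧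
      (n.factorial).factorization p = (∑ x, ((k x).factorial).factorization p) + 1 := by
  have hp : p.Prime := Fact.out
  obtain ⟨a, b, c, x, y, z, h1, h2, h3, hn, h0, hv, h4⟩ := exists_triple ho hpn h33
  refine ⟨tri a b c x y z, ?_, ?_, ?_, ?_⟩
  · rw [sum_tri (fun a _ => a) (fun _ => rfl) h1 h2 h3, hn]
  · rw [sum_tri (fun a t => (a : ZMod p) * t) (fun t => by rw [Nat.cast_zero, zero_mul]) h1 h2 h3, h0]
  · intro d hd
    by_contra hne
    simp only [not_exists, not_not] at hne
    have h5 := const_of_shift hd hne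
    have e1 : a = b := by
      have h6 := h5 x
      have h7 := h5 y
      rw [tri_x] at h6
      rw [tri_y h1] at h7
      exact h6.trans h7.symm
    have e2 : b = c := by
      have h6 := h5 y
      have h7 := h5 z
      rw [tri_y h1] at h6
      rw [tri_z h2 h3] at h7
      exact h6.trans h7.symm
    rcases eq_or_ne p 3 with rfl | h6
    · exact h4 ⟨e1, e2, rfl⟩
    · have h7 : ∃ t : ZMod p, t ≠ x ∧ t ≠ y ∧ t ≠ z := by
        classical
        by_contra h8
        have h9 : (Finset.univ : Finset (ZMod p)) ⊆ {x, y, z} := by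
          intro t _
          by_contra h10
          rw [Finset.mem_insert, Finset.mem_insert, Finset.mem_singleton, not_or, not_or] at h10
          exact h8 ⟨t, h10⟩
        have h10 := Finset.card_le_card h9
        rw [Finset.card_univ, ZMod.card] at h10
        have h11 : ({x, y, z} : Finset (ZMod p)).card ≤ 3 := Finset.card_le_three
        have h12 := hp.two_le
        rcases ho with ⟨m, hm⟩
        omega
      obtain ⟨t, t1, t2, t3⟩ := h7
      have h8 := h5 t
      rw [tri_else t1 t2 t3] at h8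
      have h9 := h5 x
      rw [tri_x] at h9
      have := hp.pos
      omega
  · rw [sum_tri (fun a _ => (a.factorial).factorization p) (fun _ => vf_zero p) h1 h2 h3]
    exact hv

end fn

end Cfsg.Agent.H577.HT
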